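import Cfsg.Agent.H955.FSAmb
import Cfsg.Agent.Characters.CNBasic

/-!
# The cover by centralisers of involutions

* `fsGood_dihedral`: the group `<c>:<t>`, `c` of odd order inverted by the involution `t`;
* `inv_cover`      : if no centraliser of an involution has an irreducible character of indicator `-1`, neither has
  the group.
-/

set_option autoImplicit false

universe u

namespace Cfsg.Agent.H969.FR

open Cfsg Cfsg.Agent.H955.FS

variable {G : Type u} [Group G]

theorem inv_zpow {c t : G} (htc : t * c * t⁻¹ = c⁻¹) (i : ℤ) : t * c ^ i = c ^ (-i) * t := by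
  have h1 : t * c ^ i * t⁻¹ = c ^ (-i) := by
    rw [← conj_zpow, htc, inv_zpow', zpow_neg]
  rw [← h1]
  group

/-- the group `<c>:<t>` -/
def dih (c t : G) (ht : t * t = 1) (htc : t * c * t⁻¹ = c⁻¹) : Subgroup G where
  carrier := {x | ∃ i : ℤ, x = c ^ i ∨ x = c ^ i * t}
  mul_mem' := by
    rintro x y ⟨i, hi | hi⟩ ⟨j, hj | hj⟩
    · exact ⟨i + j, Or.inl (by rw [hi, hj, zpow_add])⟩
    · exact ⟨i + j, Or.inr (by rw [hi, hj, zpow_add, mul_assoc])⟩
    · refine ⟨i - j, Or.inr ?_⟩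
      rw [hi, hj, mul_assoc, inv_zpow htc, ← mul_assoc, ← zpow_add, sub_eq_add_neg]
    · refine ⟨i - j, Or.inl ?_⟩
      rw [hi, hj, mul_assoc, ← mul_assoc t, inv_zpow htc, mul_assoc, ht, mul_one, ← zpow_add, sub_eq_add_neg]
  one_mem' := ⟨0, Or.inl (zpow_zero _).symm⟩
  inv_mem' := by
    have hti : t⁻¹ = t := inv_eq_of_mul_eq_one_left ht
    rintro x ⟨i, hi | hi⟩
    · exact ⟨-i, Or.inl (by rw [hi, zpow_neg])⟩
    · refine ⟨i, Or.inr ?_⟩
      rw [hi, mul_inv_rev, hti, ← zpow_neg, inv_zpow htc, neg_neg]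

theorem mem_dih {c t : G} {ht : t * t = 1} {htc : t * c * t⁻¹ = c⁻¹} {x : G} :
    x ∈ dih c t ht htc ↔ ∃ i : ℤ, x = c ^ i ∨ x = c ^ i * t := Iff.rfl

/-- a dihedral group -/
theorem fsGood_dihedral [Finite G] {c t : G} (hc : Odd (orderOf c)) (ht : t * t = 1) (htc : t * c * t⁻¹ = c⁻¹) :
    FSGood True (dih c t ht htc) := by
  let C : Subgroup (dih c t ht htc) := (Subgroup.zpowers c).subgroupOf (dih c t ht htc)
  have hle : Subgroup.zpowers c ≤ dih c t ht htc := by
    rw [Subgroup.zpowers_le]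
    exact ⟨1, Or.inl (zpow_one c).symm⟩
  refine (fsGood_of_compl C ?_ ?_).mono fun _ => trivial
  · have e : Nat.card C = Nat.card (Subgroup.zpowers c) := Nat.card_congr (Subgroup.subgroupOfEquivOfLe hle).toEquiv
    rw [e, Nat.card_zpowers]
    exact hc
  · rintro ⟨x, i, hi | hi⟩ hx
    · exact absurd (Subgroup.mem_subgroupOf.2 (Subgroup.mem_zpowers_iff.2 ⟨i, hi.symm⟩)) hx
    · apply Subtype.ext
      change x * x = 1
      rw [hi, mul_assoc, ← mul_assoc t, inv_zpow htc, mul_assoc, ht, mul_one, ← zpow_add, add_neg_cancel, zpow_zero]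

theorem fsGood_zpowers [Finite G] {c : G} (hc : Odd (orderOf c)) : FSGood True (Subgroup.zpowers c) := by
  refine (fsGood_of_compl (⊤ : Subgroup (Subgroup.zpowers c)) ?_ ?_).mono fun _ => trivial
  · rw [Subgroup.card_top, Nat.card_zpowers]
    exact hc
  · intro x hx
    exact absurd (Subgroup.mem_top x) hx

/-- the condition on `P` in the covering principle -/
theorem comm_or {c t : G} (h : t * c * t⁻¹ = c ∨ t * c * t⁻¹ = c⁻¹) {d : G} (hd : d * c = c * d) :
    t * d * t⁻¹ * c = c * (t * d * t⁻¹) := by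
  have hd4 : d * c⁻¹ = c⁻¹ * d := by
    calc d * c⁻¹ = c⁻¹ * (c * d) * c⁻¹ := by group
      _ = c⁻¹ * (d * c) * c⁻¹ := by rw [hd]
      _ = c⁻¹ * d := by group
  rcases h with h1 | h1
  · have h2 : t⁻¹ * c = c * t⁻¹ := by
      calc t⁻¹ * c = t⁻¹ * (t * c * t⁻¹) := by rw [h1]
        _ = c * t⁻¹ := by group
    have h3 : t * c = c * t := by rw [← mul_inv_eq_iff_eq_mul]; exact h1
    calc t * d * t⁻¹ * c = t * d * (t⁻¹ * c) := by group
      _ = t * (d * c) * t⁻¹ := by rw [h2]; group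
      _ = (t * c) * d * t⁻¹ := by rw [hd]; group
      _ = c * (t * d * t⁻¹) := by rw [h3]; group
  · have h2 : t⁻¹ * c = c⁻¹ * t⁻¹ := by
      calc t⁻¹ * c = t⁻¹ * (c⁻¹)⁻¹ := by rw [inv_inv]
        _ = t⁻¹ * (t * c * t⁻¹)⁻¹ := by rw [h1]
        _ = c⁻¹ * t⁻¹ := by group
    have h4 : t * c⁻¹ = c * t := by
      calc t * c⁻¹ = (t * c * t⁻¹)⁻¹ * t := by group
        _ = c * t := by rw [h1, inv_inv]
    calc t * d * t⁻¹ * c = t * d * (t⁻¹ * c) := by group
      _ = t * (d * c⁻¹) * t⁻¹ := by rw [h2]; group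
      _ = (t * c⁻¹) * d * t⁻¹ := by rw [hd4]; group
      _ = c * (t * d * t⁻¹) := by rw [h4]; group

/-- **if no centraliser of an involution has a character of indicator `-1`, neither has the group** -/
theorem inv_cover [Finite G]
    (h : ∀ t : G, t * t = 1 → t ≠ 1 → FSGood True (Subgroup.centralizer ({t} : Set G))) : FSGood True G := by
  refine fsGood_of_cover fun c hc P hP hcP => ?_
  obtain ⟨C, hC⟩ : ∃ C : Subgroup G, C = Subgroup.centralizer ({c} : Set G) := ⟨_, rfl⟩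
  have hCm : ∀ x, x ∈ C ↔ x * c = c * x := fun x => by rw [hC, Subgroup.mem_centralizer_singleton_iff]
  by_cases h0 : P ⊓ C = ⊥
  · -- `P` has order at most two
    have key : ∀ x ∈ P, x * c = c * x → x = 1 := fun x hx hxc => by
      have : x ∈ P ⊓ C := ⟨hx, (hCm x).2 hxc⟩
      rwa [h0, Subgroup.mem_bot] at this
    by_cases h1 : ∃ t ∈ P, t ≠ 1
    · obtain ⟨t, htP, ht1⟩ := h1
      have hinv : ∀ x ∈ P, x ≠ 1 → x * c * x⁻¹ = c⁻¹ := fun x hx hx1 => by
        rcases hcP x hx with h2 | h2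
        · exact absurd (key x hx (by rw [← mul_inv_eq_iff_eq_mul]; exact h2)) hx1
        · exact h2
      have hprod : ∀ x ∈ P, ∀ y ∈ P, x ≠ 1 → y ≠ 1 → x * y = 1 := fun x hx y hy hx1 hy1 => by
        refine key _ (mul_mem hx hy) ?_
        rw [← mul_inv_eq_iff_eq_mul]
        calc x * y * c * (x * y)⁻¹ = x * (y * c * y⁻¹) * x⁻¹ := by group
          _ = (x * c * x⁻¹)⁻¹ := by rw [hinv y hy hy1]; group
          _ = c := by rw [hinv x hx hx1, inv_inv]
      have htt := hprod t htP t htP ht1 ht1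
      refine ⟨dih c t htt (hinv t htP ht1), ⟨1, Or.inl (zpow_one c).symm⟩, fun x hx => ?_,
        fsGood_dihedral hc htt _⟩
      by_cases hx1 : x = 1
      · rw [hx1]; exact one_mem _
      · refine ⟨0, Or.inr ?_⟩
        rw [zpow_zero, one_mul]
        have h2 := hprod x hx t htP hx1 ht1
        rw [← htt] at h2
        exact mul_right_cancel h2
    · push Not at h1
      exact ⟨Subgroup.zpowers c, Subgroup.mem_zpowers c, fun x hx => by rw [h1 x hx]; exact one_mem _,
        fsGood_zpowers hc⟩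
  · have hn : ∀ t ∈ P, ∀ d ∈ P ⊓ C, t * d * t⁻¹ ∈ P ⊓ C := fun t ht d hd =>
      ⟨P.mul_mem (P.mul_mem ht hd.1) (P.inv_mem ht), (hCm _).2 (comm_or (hcP t ht) ((hCm d).1 hd.2))⟩
    obtain ⟨w, hw, hw1, hwc⟩ := Characters.CNBasic.exists_mem_center_of_normal P hP (P ⊓ C)
      (hP.to_le inf_le_left) h0 hn
    obtain ⟨m, hm⟩ := (IsPGroup.iff_orderOf.1 hP) ⟨w, hw.1⟩
    rw [← Subgroup.orderOf_coe] at hm
    change orderOf w = 2 ^ m at hm
    rcases m with _ | m
    · rw [pow_zero] at hm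
      exact absurd (orderOf_eq_one_iff.1 hm) hw1
    have ho : orderOf (w ^ 2 ^ m) = 2 := by
      rw [orderOf_pow' _ (by positivity), hm, Nat.gcd_eq_right (pow_dvd_pow 2 (Nat.le_succ m)), pow_succ,
        Nat.mul_div_cancel_left _ (by positivity)]
    have h3 : w ^ 2 ^ m * w ^ 2 ^ m = 1 := by
      have := pow_orderOf_eq_one (w ^ 2 ^ m)
      rwa [ho, pow_two] at this
    have h4 : w ^ 2 ^ m ≠ 1 := by
      intro h5
      rw [h5, orderOf_one] at ho
      exact absurd ho (by norm_num)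
    refine ⟨Subgroup.centralizer ({w ^ 2 ^ m} : Set G), ?_, fun x hx => ?_, h _ h3 h4⟩
    · rw [Subgroup.mem_centralizer_singleton_iff]
      have h5 : Commute w c := (hCm w).1 hw.2
      exact (h5.pow_left _).eq.symm
    · rw [Subgroup.mem_centralizer_singleton_iff]
      have h5 : Commute x w := hwc x hx
      exact (h5.pow_right _).eq

end Cfsg.Agent.H969.FR
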