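import Cfsg.Agent.H969.FR.HexOdd
import Cfsg.Agent.H969.FR.InvCover

/-!
# TEAM SR (S4970): rows `³D₄(q)` and `G₂(q)`, `q` odd
-/

set_option autoImplicit false

universe u v

namespace Cfsg.Agent.H969.FR

open Cfsg Cfsg.Agent.H955.FS Cfsg.Agent.H721.FR
open Cfsg.Agent.Cit.HexBase

/-- a finite group of hexagon type in odd characteristic has no character of indicator `-1` -/
theorem fsGood_hex {E : Type v} [Field E] {σ : E ≃+* E} {L : Type u} [Group L] (c : HexGrp σ L) [Finite E] [Finite L]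
    (h2 : (2 : E) ≠ 0) : FSGood True L := by
  refine inv_cover fun t ht ht1 => ?_
  obtain ⟨x, hx⟩ := isConj_iff.1 (c.isConj_z h2 ht ht1)
  have e : (Subgroup.centralizer ({c.z} : Set L)).map (MulAut.conj x⁻¹).toMonoidHom =
      Subgroup.centralizer ({t} : Set L) := by
    ext g
    rw [Subgroup.mem_map]
    constructor
    · rintro ⟨y, hy, rfl⟩
      rw [Subgroup.mem_centralizer_singleton_iff] at hy ⊢
      change x⁻¹ * y * x⁻¹⁻¹ * t = t * (x⁻¹ * y * x⁻¹⁻¹)
      rw [inv_inv]
      calc x⁻¹ * y * x * t = x⁻¹ * (y * (x * t * x⁻¹)) * x := by group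
        _ = x⁻¹ * ((x * t * x⁻¹) * y) * x := by rw [hx, hy]
        _ = t * (x⁻¹ * y * x) := by group
    · intro hg
      rw [Subgroup.mem_centralizer_singleton_iff] at hg
      refine ⟨x * g * x⁻¹, ?_, ?_⟩
      · rw [Subgroup.mem_centralizer_singleton_iff, ← hx]
        calc x * g * x⁻¹ * (x * t * x⁻¹) = x * (g * t) * x⁻¹ := by group
          _ = x * t * x⁻¹ * (x * g * x⁻¹) := by rw [hg]; group
      · change x⁻¹ * (x * g * x⁻¹) * x⁻¹⁻¹ = g
        group
  have h3 : FSGood True (Subgroup.centralizer ({c.z} : Set L)) := (fs_CZ c h2).mono False.elim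
  have h4 := h3.of_equiv (Subgroup.equivMapOfInjective _ (MulAut.conj x⁻¹).toMonoidHom (MulAut.conj x⁻¹).injective)
  rwa [e] at h4

/-- isomorphisms between different universes -/
theorem fsGood_congr {G : Type u} {H : Type v} [Group G] [Group H] (e : G ≃* H) {w : Prop} (h : FSGood w G) :
    FSGood w H := by
  intro χ hχ
  have h1 := h (χ ∘ e) (Characters.Core.isIrr_comp e.toMonoidHom e.surjective hχ)
  have h2 : fsi (χ ∘ e) = fsi χ := by
    unfold fsi
    rw [Nat.card_congr e.toEquiv]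
    congr 1
    rw [← finsum_comp_equiv e.toEquiv]
    refine finsum_congr fun s => ?_
    change χ (e (s * s)) = χ (e s * e s)
    rw [map_mul]
  rwa [h2] at h1

/-- **`³D₄(q)`, `q` odd**: no indicator is `-1` -/
theorem good_3d4_odd {S : Type u} [Group S] {K : Type} [Field K] [Fintype K] {q : ℕ}
    (hK : Fintype.card K = q ^ 3) (hq : Odd q) (e : S ≃* Cfsg.Lie.twistedD4 K q) : FSGood True S := by
  have h2 : (2 : K) ≠ 0 := Cfsg.Agent.H588.UnfLie.two_ne_of_odd (by rw [hK]; exact hq.pow)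
  obtain ⟨σ, -, ⟨c⟩⟩ := Cfsg.Agent.Cit.HexD4.exists_d4 hK
  exact fsGood_congr e.symm (fsGood_hex c h2)

/-- **`³D₄(q)`, `q` odd** -/
theorem fr_3d4_odd {S : Type u} [Group S] {K : Type} [Field K] [Fintype K] {q : ℕ}
    (hK : Fintype.card K = q ^ 3) (hq : Odd q) (e : S ≃* Cfsg.Lie.twistedD4 K q) : FR S := by
  have : Finite S := Finite.of_equiv _ e.symm.toEquiv
  exact FR.of_good (good_3d4_odd hK hq e)

/-- **`G₂(q)`, `q` odd**: no indicator is `-1` -/
theorem good_g2_odd {S : Type u} [Group S] {F : Type} [Field F] [Fintype F] (hF : Odd (Fintype.card F))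
    (e : S ≃* Cfsg.Lie.chevG2.group F) : FSGood True S := by
  have h2 := Cfsg.Agent.H588.UnfLie.two_ne_of_odd hF
  exact fsGood_congr e.symm (fsGood_hex (Cfsg.Agent.Cit.HexG2.g2 F h2) h2)

/-- **`G₂(q)`, `q` odd** -/
theorem fr_g2_odd {S : Type u} [Group S] {F : Type} [Field F] [Fintype F] (hF : Odd (Fintype.card F))
    (e : S ≃* Cfsg.Lie.chevG2.group F) : FR S := by
  have : Finite S := Finite.of_equiv _ e.symm.toEquiv
  exact FR.of_good (good_g2_odd hF e)

end Cfsg.Agent.H969.FR
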