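import Cfsg.Agent.H955.FSBase
import Cfsg.Agent.S0876
import Cfsg.Agent.CharDeep.LinearChar
import Cfsg.Agent.CharDeep.DegreeBound

/-!
# Indicators by a Gelfand-Graev counting argument

`f : D →* G`, `ψ` a linear character of `D`, `h ∈ G` with `h²` central of square one, `h⁻¹ f(D) h ≤ f(D)` and
`ψ^h = ψ⁻¹`. If for all `y ∈ G` either `h y⁻¹ h⁻¹ = f(a) y f(b)` with `ψ(a) ψ(b) = 1`, or `y f(a) = f(b) y` with
`ψ(a) ≠ ψ(b)`, then every irreducible character `χ` of `G` over `ψ` has `⟨χ ∘ f, ψ⟩ = 1` and `ν(χ) = χ(h²)/χ(1)`.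
(Both `∑ ⟨χ∘f, ψ⟩²` and `∑ ν(χ) ω_χ(h²) ⟨χ∘f, ψ⟩` are computed by counting; the summands agree for each `y`.)
-/

set_option autoImplicit false

universe u v

namespace Cfsg.Agent.H969.FR

open Cfsg Cfsg.Agent.H955.FS Cfsg.Agent.Characters.Core
open scoped ComplexConjugate

section gelf

variable {G : Type u} [Group G] {D : Type v} [Group D]

/-- the hypothesis on one element -/
def Ok (f : D →* G) (ψ : D →* ℂˣ) (h y : G) : Prop :=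
  (∃ a b : D, h * y⁻¹ * h⁻¹ = f a * y * f b ∧ ψ a * ψ b = 1) ∨
  (∃ a b : D, y * f a = f b * y ∧ ψ a ≠ ψ b)

theorem conj_hom [Finite D] (ψ : D →* ℂˣ) (d : D) : conj (ψ d : ℂ) = ((ψ d⁻¹ : ℂˣ) : ℂ) :=
  (isCharacter_apply_inv (CharDeep.LinearChar.isCharacter_of_hom ψ) d).symm

theorem inner_sum [Finite G] [Fintype D] (f : D →* G) (ψ : D →* ℂˣ) (h : G)
    (hok : ∀ y, Ok f ψ h y) (y : G) [DecidableEq G] :
    (∑ v : D, ∑ w : D, if y * f w = f v * y then ((ψ v : ℂˣ) : ℂ) * ((ψ w⁻¹ : ℂˣ) : ℂ) else 0) =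
    ∑ v : D, ∑ w : D, if h * y⁻¹ * h⁻¹ * f w = f v * y then ((ψ v : ℂˣ) : ℂ) * ((ψ w⁻¹ : ℂˣ) : ℂ) else 0 := by
  rcases hok y with ⟨a, b, h1, h2⟩ | ⟨a, b, h1, h2⟩
  · rw [h1]
    rw [← Equiv.sum_comp (Equiv.mulLeft a⁻¹)]
    refine Finset.sum_congr rfl fun v _ => ?_
    rw [← Equiv.sum_comp (Equiv.mulLeft b)]
    refine Finset.sum_congr rfl fun w _ => ?_
    rw [Equiv.coe_mulLeft, Equiv.coe_mulLeft]
    have e1 : (y * f (b * w) = f (a⁻¹ * v) * y) ↔ (f a * y * f b * f w = f v * y) := by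
      rw [map_mul, map_mul, map_inv]
      constructor
      · intro h3
        calc f a * y * f b * f w = f a * (y * (f b * f w)) := by group
          _ = f v * y := by rw [h3]; group
      · intro h3
        calc y * (f b * f w) = (f a)⁻¹ * (f a * y * f b * f w) := by group
          _ = (f a)⁻¹ * f v * y := by rw [h3]; group
    have e2 : ψ (a⁻¹ * v) * ψ (b * w)⁻¹ = ψ v * ψ w⁻¹ := by
      rw [← map_mul, mul_inv_rev, map_mul, map_mul, map_mul, map_inv, map_inv ψ b]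
      have : ψ a = (ψ b)⁻¹ := eq_inv_of_mul_eq_one_left h2
      rw [this, inv_inv]
      rw [mul_comm (ψ w⁻¹) (ψ b)⁻¹]
      rw [mul_mul_mul_comm, mul_inv_cancel, one_mul]
    have e3 : ((ψ (a⁻¹ * v) : ℂˣ) : ℂ) * ((ψ (b * w)⁻¹ : ℂˣ) : ℂ) = ((ψ v : ℂˣ) : ℂ) * ((ψ w⁻¹ : ℂˣ) : ℂ) := by
      rw [← Units.val_mul, e2, Units.val_mul]
    rw [if_congr e1 e3 rfl]
  · -- both sums vanish
    have key : ∀ t : G, (∑ v : D, ∑ w : D, if t * f w = f v * y then ((ψ v : ℂˣ) : ℂ) * ((ψ w⁻¹ : ℂˣ) : ℂ) else 0) = 0 := by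
      intro t
      have h3 : (∑ v : D, ∑ w : D, if t * f w = f v * y then ((ψ v : ℂˣ) : ℂ) * ((ψ w⁻¹ : ℂˣ) : ℂ) else 0) =
          ((ψ b : ℂˣ) : ℂ) * ((ψ a⁻¹ : ℂˣ) : ℂ) *
          (∑ v : D, ∑ w : D, if t * f w = f v * y then ((ψ v : ℂˣ) : ℂ) * ((ψ w⁻¹ : ℂˣ) : ℂ) else 0) := by
        conv_lhs => rw [← Equiv.sum_comp (Equiv.mulRight b)]
        rw [Finset.mul_sum]
        refine Finset.sum_congr rfl fun v _ => ?_
        conv_lhs => rw [← Equiv.sum_comp (Equiv.mulRight a)]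
        rw [Finset.mul_sum]
        refine Finset.sum_congr rfl fun w _ => ?_
        rw [Equiv.coe_mulRight, Equiv.coe_mulRight]
        have e1 : (t * f (w * a) = f (v * b) * y) ↔ (t * f w = f v * y) := by
          rw [map_mul, map_mul, mul_assoc (f v), ← h1, ← mul_assoc, ← mul_assoc, mul_left_inj]
        have e3 : ((ψ (v * b) : ℂˣ) : ℂ) * ((ψ (w * a)⁻¹ : ℂˣ) : ℂ) =
            ((ψ b : ℂˣ) : ℂ) * ((ψ a⁻¹ : ℂˣ) : ℂ) * (((ψ v : ℂˣ) : ℂ) * ((ψ w⁻¹ : ℂˣ) : ℂ)) := by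
          rw [mul_inv_rev, map_mul, map_mul, Units.val_mul, Units.val_mul]
          ring
        rw [if_congr e1 e3 rfl, mul_ite, mul_zero]
      have h4 : ((ψ b : ℂˣ) : ℂ) * ((ψ a⁻¹ : ℂˣ) : ℂ) ≠ 1 := by
        intro h5
        apply h2
        rw [← Units.val_mul, map_inv] at h5
        have h6 : ψ b * (ψ a)⁻¹ = 1 := Units.ext h5
        exact (mul_inv_eq_one.1 h6).symm
      have h5 : (1 - ((ψ b : ℂˣ) : ℂ) * ((ψ a⁻¹ : ℂˣ) : ℂ)) *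
          (∑ v : D, ∑ w : D, if t * f w = f v * y then ((ψ v : ℂˣ) : ℂ) * ((ψ w⁻¹ : ℂˣ) : ℂ) else 0) = 0 := by
        rw [sub_mul, one_mul, ← h3, sub_self]
      exact (mul_eq_zero.1 h5).resolve_left (sub_ne_zero.2 h4.symm)
    rw [key, key]

theorem exists_mult [Finite G] [Fintype D] (f : D →* G) (ψ : D →* ℂˣ) {χ : G → ℂ} (hχ : IsIrrCharacter G χ) :
    ∃ n : ℕ, ∑ d : D, χ (f d) * ((ψ d⁻¹ : ℂˣ) : ℂ) = (Nat.card D : ℂ) * n := by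
  obtain ⟨n, hn⟩ := classInner_isNat (isCharacter_comp f (isIrr_isCharacter hχ))
    (CharDeep.LinearChar.isCharacter_of_hom ψ)
  refine ⟨n, ?_⟩
  rw [classInner_def, inv_mul_eq_iff_eq_mul₀ (by exact_mod_cast Nat.card_pos.ne')] at hn
  rw [← hn]
  refine Finset.sum_congr rfl fun d _ => ?_
  rw [conj_hom]
  rfl

theorem sum_one [Finite G] [Fintype G] [Fintype D] [DecidableEq G] [Fintype (IrrCharacter G)] (f : D →* G)
    (ψ : D →* ℂˣ) (n : IrrCharacter G → ℕ)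
    (hn : ∀ χ : IrrCharacter G, ∑ d : D, (χ : G → ℂ) (f d) * ((ψ d⁻¹ : ℂˣ) : ℂ) = (Nat.card D : ℂ) * n χ) :
    (∑ y : G, ∑ v : D, ∑ w : D, if y * f w = f v * y then ((ψ v : ℂˣ) : ℂ) * ((ψ w⁻¹ : ℂˣ) : ℂ) else 0) =
      (Nat.card D : ℂ) ^ 2 * ∑ χ : IrrCharacter G, (n χ : ℂ) ^ 2 := by
  have h1 : ∀ v w : D, (∑ y : G, if y * f w = f v * y then ((ψ v : ℂˣ) : ℂ) * ((ψ w⁻¹ : ℂˣ) : ℂ) else 0) =
      ∑ χ : IrrCharacter G, ((χ : G → ℂ) (f w) * ((ψ w⁻¹ : ℂˣ) : ℂ)) *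
        conj ((χ : G → ℂ) (f v) * ((ψ v⁻¹ : ℂˣ) : ℂ)) := by
    intro v w
    have e1 : (∑ y : G, if y * f w = f v * y then ((ψ v : ℂˣ) : ℂ) * ((ψ w⁻¹ : ℂˣ) : ℂ) else 0) =
        ((ψ v : ℂˣ) : ℂ) * ((ψ w⁻¹ : ℂˣ) : ℂ) * (Nat.card {x : G // x * f w * x⁻¹ = f v} : ℂ) := by
      rw [Nat.card_eq_fintype_card, Fintype.card_subtype, ← Finset.sum_boole, Finset.mul_sum]
      refine Finset.sum_congr rfl fun y _ => ?_
      rw [mul_ite, mul_one, mul_zero]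
      exact if_congr mul_inv_eq_iff_eq_mul.symm rfl rfl
    rw [e1, ← S0876.sum_irr_mul_conj, Finset.mul_sum]
    refine Finset.sum_congr rfl fun χ _ => ?_
    rw [map_mul, conj_hom, inv_inv]
    ring
  rw [Finset.sum_comm]
  have h2 : ∀ v : D, (∑ y : G, ∑ w : D, if y * f w = f v * y then ((ψ v : ℂˣ) : ℂ) * ((ψ w⁻¹ : ℂˣ) : ℂ) else 0) =
      ∑ χ : IrrCharacter G, ((Nat.card D : ℂ) * n χ) * conj ((χ : G → ℂ) (f v) * ((ψ v⁻¹ : ℂˣ) : ℂ)) := by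
    intro v
    rw [Finset.sum_comm, Finset.sum_congr rfl fun w _ => h1 v w, Finset.sum_comm]
    refine Finset.sum_congr rfl fun χ _ => ?_
    rw [← Finset.sum_mul, hn]
  rw [Finset.sum_congr rfl fun v _ => h2 v, Finset.sum_comm, Finset.mul_sum]
  refine Finset.sum_congr rfl fun χ _ => ?_
  rw [← Finset.mul_sum, ← map_sum, hn, map_mul, Complex.conj_natCast, Complex.conj_natCast]
  ring

theorem sum_two [Finite G] [Fintype G] [Fintype D] [DecidableEq G] [Fintype (IrrCharacter G)] (f : D →* G)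
    (ψ : D →* ℂˣ) (n : IrrCharacter G → ℕ)
    (hn : ∀ χ : IrrCharacter G, ∑ d : D, (χ : G → ℂ) (f d) * ((ψ d⁻¹ : ℂˣ) : ℂ) = (Nat.card D : ℂ) * n χ)
    {h : G} (hz : ∀ g, g * (h * h) = h * h * g) (hz2 : h * h * (h * h) = 1)
    (hσ : ∀ d, ∃ d', h⁻¹ * f d * h = f d' ∧ ψ d' = (ψ d)⁻¹) (w : IrrCharacter G → ℂ)
    (hw : ∀ (χ : IrrCharacter G) (g : G), (χ : G → ℂ) (g * (h * h)) = w χ * (χ : G → ℂ) g) :
    (∑ y : G, ∑ v : D, ∑ w : D, if h * y⁻¹ * h⁻¹ * f w = f v * y then ((ψ v : ℂˣ) : ℂ) * ((ψ w⁻¹ : ℂˣ) : ℂ) else 0) =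
      (Nat.card D : ℂ) ^ 2 * ∑ χ : IrrCharacter G, fsi (χ : G → ℂ) * w χ * (n χ : ℂ) := by
  have h1 : ∀ v w : D, (∑ y : G, if h * y⁻¹ * h⁻¹ * f w = f v * y then ((ψ v : ℂˣ) : ℂ) * ((ψ w⁻¹ : ℂˣ) : ℂ) else 0) =
      ((ψ v : ℂˣ) : ℂ) * ((ψ w⁻¹ : ℂˣ) : ℂ) * H692.SqRoot.sqrtCount G ((h⁻¹ * f v * h) * f w * (h * h)) := by
    intro v w
    rw [H692.SqRoot.sqrtCount, Nat.card_eq_fintype_card, Fintype.card_subtype, ← Finset.sum_boole, Finset.mul_sum]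
    rw [← Equiv.sum_comp (Equiv.mulLeft (h⁻¹ * f v)⁻¹)]
    refine Finset.sum_congr rfl fun y _ => ?_
    rw [mul_ite, mul_one, mul_zero]
    refine if_congr ?_ rfl rfl
    rw [Equiv.coe_mulLeft]
    have hh : h * h = h⁻¹ * h⁻¹ := by
      rw [← mul_inv_rev]
      exact eq_inv_of_mul_eq_one_left hz2
    have e1 : h⁻¹ * f v * h * f w * (h * h) = h⁻¹ * f v * h⁻¹ * f w := by
      calc h⁻¹ * f v * h * f w * (h * h) = h⁻¹ * f v * h * (f w * (h * h)) := by group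
        _ = h⁻¹ * f v * h * (h⁻¹ * h⁻¹ * f w) := by rw [hz, hh]
        _ = _ := by group
    rw [e1]
    constructor
    · intro h2
      have h3 : y⁻¹ * (h⁻¹ * f v * h⁻¹ * f w) = y := by
        calc y⁻¹ * (h⁻¹ * f v * h⁻¹ * f w) =
            h⁻¹ * (h * ((h⁻¹ * f v)⁻¹ * y)⁻¹ * h⁻¹ * f w) := by group
          _ = h⁻¹ * (f v * ((h⁻¹ * f v)⁻¹ * y)) := by rw [h2]
          _ = y := by group
      rw [inv_mul_eq_iff_eq_mul] at h3
      exact h3.symm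
    · intro h2
      calc h * ((h⁻¹ * f v)⁻¹ * y)⁻¹ * h⁻¹ * f w = h * (y⁻¹ * (h⁻¹ * f v * h⁻¹ * f w)) := by group
        _ = h * y := by rw [← h2]; group
        _ = _ := by group
  have h2 : ∀ v : D, (∑ w : D, ((ψ v : ℂˣ) : ℂ) * ((ψ w⁻¹ : ℂˣ) : ℂ) *
      H692.SqRoot.sqrtCount G ((h⁻¹ * f v * h) * f w * (h * h))) =
      (Nat.card D : ℂ) * ∑ χ : IrrCharacter G, fsi (χ : G → ℂ) * w χ * (n χ : ℂ) := by
    intro v
    obtain ⟨v', hv1, hv2⟩ := hσ v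
    rw [hv1]
    rw [← Equiv.sum_comp (Equiv.mulLeft v'⁻¹)]
    have e1 : ∀ u : D, ((ψ v : ℂˣ) : ℂ) * ((ψ (Equiv.mulLeft v'⁻¹ u)⁻¹ : ℂˣ) : ℂ) *
        H692.SqRoot.sqrtCount G (f v' * f (Equiv.mulLeft v'⁻¹ u) * (h * h)) =
        ∑ χ : IrrCharacter G, fsi (χ : G → ℂ) * w χ * ((χ : G → ℂ) (f u) * ((ψ u⁻¹ : ℂˣ) : ℂ)) := by
      intro u
      change ((ψ v : ℂˣ) : ℂ) * ((ψ (v'⁻¹ * u)⁻¹ : ℂˣ) : ℂ) *
        H692.SqRoot.sqrtCount G (f v' * f (v'⁻¹ * u) * (h * h)) = _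
      have eA : f v' * f (v'⁻¹ * u) = f u := by rw [← map_mul, mul_inv_cancel_left]
      rw [eA, H692.SqRoot.sqrtCount_eq_sum, mul_inv_rev, inv_inv, map_mul, hv2, Units.val_mul, Finset.mul_sum]
      refine Finset.sum_congr rfl fun χ _ => ?_
      rw [hw, fsi_eq_nu]
      have e2 : ((ψ v : ℂˣ) : ℂ) * (((ψ v)⁻¹ : ℂˣ) : ℂ) = 1 := by
        rw [← Units.val_mul, mul_inv_cancel, Units.val_one]
      linear_combination (((ψ u⁻¹ : ℂˣ) : ℂ) * (H692.SqRoot.nu (χ : G → ℂ) * (w χ * (χ : G → ℂ) (f u)))) * e2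
    rw [Finset.sum_congr rfl fun u _ => e1 u, Finset.sum_comm, Finset.mul_sum]
    refine Finset.sum_congr rfl fun χ _ => ?_
    rw [← Finset.mul_sum, hn]
    ring
  rw [Finset.sum_comm]
  have h3 : ∀ v : D, (∑ y : G, ∑ w : D, if h * y⁻¹ * h⁻¹ * f w = f v * y then ((ψ v : ℂˣ) : ℂ) *
      ((ψ w⁻¹ : ℂˣ) : ℂ) else 0) = (Nat.card D : ℂ) * ∑ χ : IrrCharacter G, fsi (χ : G → ℂ) * w χ * (n χ : ℂ) := by
    intro v
    rw [Finset.sum_comm, Finset.sum_congr rfl fun w _ => h1 v w, h2]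
  rw [Finset.sum_congr rfl fun v _ => h3 v, Finset.sum_const, Finset.card_univ, nsmul_eq_mul,
    Nat.card_eq_fintype_card]
  ring

/-- **The counting lemma.** -/
theorem fs_gelfand [Finite G] [Fintype D] (f : D →* G) (ψ : D →* ℂˣ) {h : G}
    (hz : ∀ g, g * (h * h) = h * h * g) (hz2 : h * h * (h * h) = 1)
    (hσ : ∀ d, ∃ d', h⁻¹ * f d * h = f d' ∧ ψ d' = (ψ d)⁻¹) (hok : ∀ y, Ok f ψ h y)
    {χ : G → ℂ} (hχ : IsIrrCharacter G χ) (hne : ∑ d : D, χ (f d) * ((ψ d⁻¹ : ℂˣ) : ℂ) ≠ 0) :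
    fsi χ * χ (h * h) = χ 1 ∧ ∑ d : D, χ (f d) * ((ψ d⁻¹ : ℂˣ) : ℂ) = Nat.card D := by
  classical
  have := Fintype.ofFinite G
  have := finite_irr (G := G)
  have := Fintype.ofFinite (IrrCharacter G)
  choose n hn using fun χ : IrrCharacter G => exists_mult f ψ χ.2
  have hcz : h * h ∈ Subgroup.center G := Subgroup.mem_center_iff.2 hz
  choose w hw1 hw using fun χ : IrrCharacter G => CharDeep.DegreeBound.exists_omega χ.2 hcz
  -- the scalars are signs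
  have hwsq : ∀ χ : IrrCharacter G, w χ = 1 ∨ w χ = -1 := by
    intro χ
    have h1 : (χ : G → ℂ) 1 ≠ 0 := isIrr_apply_one_ne_zero χ.2
    have h2 : (χ : G → ℂ) 1 = w χ * (w χ * (χ : G → ℂ) 1) := by
      rw [← hw, ← hw, one_mul, hz2]
    have h3 : w χ * w χ = 1 := by
      apply mul_right_cancel₀ h1
      rw [one_mul, mul_assoc, ← h2]
    exact mul_self_eq_one_iff.1 h3
  have hD : (Nat.card D : ℂ) ≠ 0 := by
    have : Nonempty D := ⟨1⟩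
    exact_mod_cast Nat.card_pos.ne'
  have h1 := sum_one f ψ n hn
  have h2 := sum_two f ψ n hn hz hz2 hσ w hw
  rw [Finset.sum_congr rfl fun y _ => inner_sum f ψ h hok y, h2] at h1
  have h3 := mul_left_cancel₀ (pow_ne_zero 2 hD) h1
  -- integers
  have he : ∀ χ : IrrCharacter G, ∃ e : ℤ, e ≤ 1 ∧ fsi (χ : G → ℂ) * w χ = e := by
    intro χ
    rcases fsi_cases χ.2 with h4 | h4 | h4 <;> rcases hwsq χ with h5 | h5 <;> rw [h4, h5]
    · exact ⟨0, by norm_num, by norm_num⟩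
    · exact ⟨0, by norm_num, by norm_num⟩
    · exact ⟨1, by norm_num, by norm_num⟩
    · exact ⟨-1, by norm_num, by norm_num⟩
    · exact ⟨-1, by norm_num, by norm_num⟩
    · exact ⟨1, by norm_num, by norm_num⟩
  choose e he1 he2 using he
  have h4 : ∑ χ : IrrCharacter G, ((n χ : ℤ) * (n χ - e χ)) = 0 := by
    have h5 : ((∑ χ : IrrCharacter G, ((n χ : ℤ) * (n χ - e χ)) : ℤ) : ℂ) = 0 := by
      push_cast
      have : ∀ χ : IrrCharacter G, (n χ : ℂ) * (n χ - e χ) = (n χ : ℂ) ^ 2 - fsi (χ : G → ℂ) * w χ * n χ := by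
        intro χ
        rw [he2]
        ring
      rw [Finset.sum_congr rfl fun χ _ => this χ, Finset.sum_sub_distrib, ← h3, sub_self]
    exact_mod_cast h5
  have h5 : ∀ χ : IrrCharacter G, 0 ≤ (n χ : ℤ) * (n χ - e χ) := by
    intro χ
    rcases Nat.eq_zero_or_pos (n χ) with h6 | h6
    · rw [h6]; simp
    · refine mul_nonneg (by positivity) ?_
      have := he1 χ
      omega
  have h6 := (Finset.sum_eq_zero_iff_of_nonneg fun χ _ => h5 χ).1 h4 ⟨χ, hχ⟩ (Finset.mem_univ _)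
  have h7 : n ⟨χ, hχ⟩ ≠ 0 := by
    intro h8
    apply hne
    rw [hn ⟨χ, hχ⟩, h8, Nat.cast_zero, mul_zero]
  have h8 : (n ⟨χ, hχ⟩ : ℤ) = e ⟨χ, hχ⟩ := by
    rcases mul_eq_zero.1 h6 with h9 | h9
    · exact absurd (by exact_mod_cast h9) h7
    · omega
  have h9 := he1 ⟨χ, hχ⟩
  have h10 : n ⟨χ, hχ⟩ = 1 := by omega
  have h11 : e ⟨χ, hχ⟩ = 1 := by omega
  constructor
  · have h12 := he2 ⟨χ, hχ⟩
    rw [h11] at h12
    have h13 := hw ⟨χ, hχ⟩ 1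
    rw [one_mul] at h13
    change χ (h * h) = w ⟨χ, hχ⟩ * χ 1 at h13
    change fsi χ * w ⟨χ, hχ⟩ = _ at h12
    rw [h13, ← mul_assoc, h12]
    simp
  · have h12 := hn ⟨χ, hχ⟩
    rw [h10] at h12
    rw [h12, Nat.cast_one, mul_one]

end gelf

end Cfsg.Agent.H969.FR
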