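import Cfsg.Agent.H969.FR.Pair
import Cfsg.Agent.H955.FSAmb
import Cfsg.Agent.H721.FR.Base
import Cfsg.Agent.S0188

/-!
# TEAM SR (S4970), row `³D₄(q)`, `q` odd: Frobenius-Schur indicators

* `fs_CZ`     : all indicators of `C(z)` are one (`C(z) = (SL(2,q^3) ∘ SL(2,q)) T`), by the counting lemma;
* `inv_cover` : if no centraliser of an involution has a character of indicator `-1`, neither has the group;
* `fsGood_hex`, `fr_3d4_odd`, `fr_g2_odd`.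
-/

set_option autoImplicit false

universe u v

namespace Cfsg.Agent.H969.FR

open Cfsg Cfsg.Agent.H955.FS Cfsg.Agent.Characters.Core Cfsg.Agent.H721.FR
open Cfsg.Agent.Cit.HexBase Cfsg.Agent.Lib.SL2Mat Cfsg.Agent.H991.SRD
open Cfsg.Agent.SplitTwo Cfsg.Agent.TitsThree.RankTwoZ
open scoped ComplexConjugate

section hex

variable {E : Type v} [Field E] {σ : E ≃+* E} {L : Type u} [Group L]

/-- the action of `z0` on the first factor -/
theorem z0_pb (c : HexGrp σ L) (x : SL2 E) : c.z0 * c.pb x = c.pb (conjGL (dgl (-1) neg_one_ne) x) * c.z0 := by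
  have := c.act_z0.pb x
  rw [← this]
  group

theorem z0_p4 (c : HexGrp σ L) [Finite E] (h2 : (2 : E) ≠ 0) (x : SL2 ↥(fx σ)) :
    c.z0 * c.p4 x = c.p4 (conjGL (dgl (-1) neg_one_ne) x) * c.z0 := by
  have := c.act_z0.p4 h2 x
  have e2 : dgl (⟨(1 : E) ^ 2 * nrm σ (-1 : E), c.act_z0.fix4⟩ : ↥(fx σ)) (HexGrp.sub_ne _ c.act_z0.ne4) =
      dgl (-1) neg_one_ne := by
    congr 1
    apply Subtype.ext
    change (1 : E) ^ 2 * nrm σ (-1 : E) = -1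
    rw [nrm_of_fix (by rw [map_neg, map_one])]
    ring
  rw [e2] at this
  rw [← this]
  group

/-- the torus element `pa (dg s)` -/
theorem hs_pb (c : HexGrp σ L) (s : ↥(fx σ)) (hs : s ≠ 0) (x : SL2 E) (hδ : (s : E)⁻¹ ≠ 0) :
    c.pa (dg s hs) * c.pb x = c.pb (conjGL (dgl (s : E)⁻¹ hδ) x) * c.pa (dg s hs) := by
  have := (c.act_a s hs).pb x
  rw [← this]
  group

theorem hs_p4 (c : HexGrp σ L) [Finite E] (h2 : (2 : E) ≠ 0) (s : ↥(fx σ)) (hs : s ≠ 0) (x : SL2 ↥(fx σ)) :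
    c.pa (dg s hs) * c.p4 x = c.p4 (conjGL (dgl s hs) x) * c.pa (dg s hs) := by
  have hs0 : (s : E) ≠ 0 := fun h => hs (Subtype.ext h)
  have hsf : σ (s : E) = s := s.2
  have := (c.act_a s hs).p4 h2 x
  have e2 : dgl (⟨((s : E) ^ 2) ^ 2 * nrm σ (s : E)⁻¹, (c.act_a s hs).fix4⟩ : ↥(fx σ))
      (HexGrp.sub_ne _ (c.act_a s hs).ne4) = dgl s hs := by
    congr 1
    apply Subtype.ext
    change ((s : E) ^ 2) ^ 2 * nrm σ (s : E)⁻¹ = s
    rw [nrm_inv, nrm_of_fix hsf]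
    field_simp
  rw [e2] at this
  rw [← this]
  group

theorem hs_sq (c : HexGrp σ L) (s : ↥(fx σ)) (hs : s ≠ 0) (hδ : (s : E)⁻¹ ≠ 0) :
    c.pa (dg s hs) * c.pa (dg s hs) = c.pb (dg (s : E)⁻¹ hδ) * c.p4 (dg s hs) := by
  have hs0 : (s : E) ≠ 0 := fun h => hs (Subtype.ext h)
  have hsf : σ (s : E) = s := s.2
  have hA := c.act_a s hs
  refine (hA.mul hA).unique (((c.act_b (s : E)⁻¹ hδ).mul (c.act_p4_dg s hs)).congr rfl ?_ ?_)
  · ring
  · rw [nrm_inv, nrm_of_fix hsf]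
    field_simp

/-- the inverting involution -/
theorem inv_of_key (c : HexGrp σ L) [Finite E] (h2 : (2 : E) ≠ 0) (s : ↥(fx σ)) (hs : s ≠ 0) (hδ : (s : E)⁻¹ ≠ 0)
    (a v : SL2 E) (b w : SL2 ↥(fx σ)) (hv1 : v * conjGL (dgl (-1) neg_one_ne) v = 1)
    (hv2 : a * conjGL (dgl (s : E)⁻¹ hδ) v * conjGL (dgl (s : E)⁻¹ hδ) (conjGL (dgl (-1) neg_one_ne) a) *
      dg (s : E)⁻¹ hδ = v)
    (hw1 : w * conjGL (dgl (-1) neg_one_ne) w = 1)
    (hw2 : b * conjGL (dgl s hs) w * conjGL (dgl s hs) (conjGL (dgl (-1) neg_one_ne) b) * dg s hs = w) :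
    (c.pb v * c.p4 w * c.z0) * (c.pb v * c.p4 w * c.z0) = 1 ∧
    (c.pb v * c.p4 w * c.z0) * (c.pb a * c.p4 b * c.pa (dg s hs)) * (c.pb v * c.p4 w * c.z0)⁻¹ =
      (c.pb a * c.p4 b * c.pa (dg s hs))⁻¹ := by
  obtain ⟨h, hh⟩ : ∃ h : L, h = c.pa (dg s hs) := ⟨_, rfl⟩
  have eh1 := fun x => hs_pb c s hs x hδ
  have eh4 := hs_p4 c h2 s hs
  have hsq := hs_sq c s hs hδ
  have ez1 := z0_pb c
  have ez4 := z0_p4 c h2
  have hzh : c.z0 * c.pa (dg s hs) = c.pa (dg s hs) * c.z0 := c.T0_comm ⟨_, _, c.act_z0⟩ ⟨_, _, c.act_a s hs⟩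
  rw [← hh] at eh1 eh4 hsq hzh ⊢
  have hz2 := c.z0_sq
  have hcm := c.comm_pb_p4
  refine ⟨?_, ?_⟩
  · calc c.pb v * c.p4 w * c.z0 * (c.pb v * c.p4 w * c.z0)
        = c.pb v * c.p4 w * (c.z0 * c.pb v) * c.p4 w * c.z0 := by group
      _ = c.pb v * c.p4 w * c.pb (conjGL (dgl (-1) neg_one_ne) v) * (c.z0 * c.p4 w) * c.z0 := by rw [ez1]; group
      _ = c.pb v * (c.p4 w * c.pb (conjGL (dgl (-1) neg_one_ne) v)) * c.p4 (conjGL (dgl (-1) neg_one_ne) w) *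
          (c.z0 * c.z0) := by rw [ez4]; group
      _ = (c.pb v * c.pb (conjGL (dgl (-1) neg_one_ne) v)) * (c.p4 w * c.p4 (conjGL (dgl (-1) neg_one_ne) w)) *
          (c.z0 * c.z0) := by rw [← hcm]; group
      _ = 1 := by rw [← map_mul, ← map_mul, hv1, hw1, hz2, map_one, map_one, mul_one, mul_one]
  · have key : (c.pb a * c.p4 b * h) * (c.pb v * c.p4 w * c.z0) * (c.pb a * c.p4 b * h) =
        c.pb v * c.p4 w * c.z0 := by
      calc (c.pb a * c.p4 b * h) * (c.pb v * c.p4 w * c.z0) * (c.pb a * c.p4 b * h)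
          = c.pb a * c.p4 b * (h * c.pb v) * c.p4 w * (c.z0 * c.pb a) * c.p4 b * h := by group
        _ = c.pb a * c.p4 b * c.pb (conjGL (dgl (s : E)⁻¹ hδ) v) * (h * c.p4 w) *
            c.pb (conjGL (dgl (-1) neg_one_ne) a) * (c.z0 * c.p4 b) * h := by rw [eh1, ez1]; group
        _ = c.pb a * c.p4 b * c.pb (conjGL (dgl (s : E)⁻¹ hδ) v) * c.p4 (conjGL (dgl s hs) w) * (h *
            c.pb (conjGL (dgl (-1) neg_one_ne) a)) * c.p4 (conjGL (dgl (-1) neg_one_ne) b) * (c.z0 * h) := by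
              rw [eh4, ez4]; group
        _ = c.pb a * c.p4 b * c.pb (conjGL (dgl (s : E)⁻¹ hδ) v) * c.p4 (conjGL (dgl s hs) w) *
            c.pb (conjGL (dgl (s : E)⁻¹ hδ) (conjGL (dgl (-1) neg_one_ne) a)) *
            (h * c.p4 (conjGL (dgl (-1) neg_one_ne) b)) * (h * c.z0) := by rw [eh1, hzh]; group
        _ = c.pb a * (c.p4 b * c.pb (conjGL (dgl (s : E)⁻¹ hδ) v)) * (c.p4 (conjGL (dgl s hs) w) *
            c.pb (conjGL (dgl (s : E)⁻¹ hδ) (conjGL (dgl (-1) neg_one_ne) a))) *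
            c.p4 (conjGL (dgl s hs) (conjGL (dgl (-1) neg_one_ne) b)) * (h * h) * c.z0 := by rw [eh4]; group
        _ = (c.pb a * c.pb (conjGL (dgl (s : E)⁻¹ hδ) v)) * (c.p4 b *
            c.pb (conjGL (dgl (s : E)⁻¹ hδ) (conjGL (dgl (-1) neg_one_ne) a))) * c.p4 (conjGL (dgl s hs) w) *
            c.p4 (conjGL (dgl s hs) (conjGL (dgl (-1) neg_one_ne) b)) *
            (c.pb (dg (s : E)⁻¹ hδ) * c.p4 (dg s hs)) * c.z0 := by rw [← hcm, ← hcm, hsq]; group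
        _ = c.pb a * c.pb (conjGL (dgl (s : E)⁻¹ hδ) v) *
            c.pb (conjGL (dgl (s : E)⁻¹ hδ) (conjGL (dgl (-1) neg_one_ne) a)) * ((c.p4 b * c.p4 (conjGL (dgl s hs) w) *
            c.p4 (conjGL (dgl s hs) (conjGL (dgl (-1) neg_one_ne) b))) *
            c.pb (dg (s : E)⁻¹ hδ)) * c.p4 (dg s hs) * c.z0 := by rw [← hcm]; group
        _ = c.pb (a * conjGL (dgl (s : E)⁻¹ hδ) v * conjGL (dgl (s : E)⁻¹ hδ) (conjGL (dgl (-1) neg_one_ne) a) *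
              dg (s : E)⁻¹ hδ) * c.p4 (b * conjGL (dgl s hs) w *
              conjGL (dgl s hs) (conjGL (dgl (-1) neg_one_ne) b) * dg s hs) * c.z0 := by
              rw [← map_mul c.p4, ← map_mul c.p4, ← hcm]
              simp only [map_mul]
              group
        _ = c.pb v * c.p4 w * c.z0 := by rw [hv2, hw2]
    obtain ⟨g, hg⟩ : ∃ g : L, g = c.pb a * c.p4 b * h := ⟨_, rfl⟩
    obtain ⟨t, ht⟩ : ∃ t : L, t = c.pb v * c.p4 w * c.z0 := ⟨_, rfl⟩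
    rw [← hg, ← ht] at key ⊢
    calc t * g * t⁻¹ = g⁻¹ * (g * t * g) * t⁻¹ := by group
      _ = g⁻¹ := by rw [key]; group

/-- the product of the two factors -/
def F0 (c : HexGrp σ L) : SL2 E × SL2 ↥(fx σ) →* Subgroup.centralizer ({c.z} : Set L) :=
  MonoidHom.codRestrict (MonoidHom.noncommCoprod c.pb c.p4 fun x y => c.comm_pb_p4 x y) _ (by
    rintro ⟨x, y⟩
    rw [Subgroup.mem_centralizer_singleton_iff]
    change c.pb x * c.p4 y * c.z = c.z * (c.pb x * c.p4 y)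
    have h1 : c.pb x * c.z = c.z * c.pb x := by rw [c.z_eq_p4]; exact c.comm_pb_p4 _ _
    have h4 : c.p4 y * c.z = c.z * c.p4 y := (c.comm_pb_p4 _ _).symm
    rw [mul_assoc, h4, ← mul_assoc, h1, mul_assoc])

theorem F0_val (c : HexGrp σ L) (x : SL2 E) (y : SL2 ↥(fx σ)) : ((F0 c (x, y) : _) : L) = c.pb x * c.p4 y := rfl

/-- `z0` in the centraliser -/
def zz (c : HexGrp σ L) : Subgroup.centralizer ({c.z} : Set L) :=
  ⟨c.z0, Subgroup.mem_centralizer_singleton_iff.2 c.z0_z⟩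

theorem zz_sq (c : HexGrp σ L) : zz c * zz c = 1 := Subtype.ext c.z0_sq

theorem zz_conj (c : HexGrp σ L) [Finite E] (h2 : (2 : E) ≠ 0) (x : SL2 E) (y : SL2 ↥(fx σ)) :
    (zz c)⁻¹ * F0 c (x, y) * zz c = F0 c (conjGL (dgl (-1) neg_one_ne) x, conjGL (dgl (-1) neg_one_ne) y) := by
  have h1 : (zz c)⁻¹ = zz c := inv_eq_of_mul_eq_one_left (zz_sq c)
  rw [h1]
  apply Subtype.ext
  change c.z0 * (c.pb x * c.p4 y) * c.z0 = c.pb _ * c.p4 _
  calc c.z0 * (c.pb x * c.p4 y) * c.z0 = (c.z0 * c.pb x) * c.p4 y * c.z0 := by group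
    _ = c.pb (conjGL (dgl (-1) neg_one_ne) x) * (c.z0 * c.p4 y) * c.z0 := by rw [z0_pb]; group
    _ = c.pb (conjGL (dgl (-1) neg_one_ne) x) * c.p4 (conjGL (dgl (-1) neg_one_ne) y) * (c.z0 * c.z0) := by
        rw [z0_p4 c h2]; group
    _ = _ := by rw [c.z0_sq, mul_one]

variable {D₁ : Type v} {D₂ : Type v} [Group D₁] [Group D₂]

/-- the homomorphism of the counting lemma -/
def fD (c : HexGrp σ L) (g₁ : GG E D₁) (g₂ : GG ↥(fx σ) D₂) :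
    D₁ × D₂ →* Subgroup.centralizer ({c.z} : Set L) := (F0 c).comp (MonoidHom.prodMap g₁.j g₂.j)

/-- the linear character of the counting lemma -/
def psD (g₁ : GG E D₁) (g₂ : GG ↥(fx σ) D₂) : D₁ × D₂ →* ℂˣ :=
  (g₁.ψ.comp (MonoidHom.fst D₁ D₂)) * (g₂.ψ.comp (MonoidHom.snd D₁ D₂))

theorem psD_apply (g₁ : GG E D₁) (g₂ : GG ↥(fx σ) D₂) (d : D₁ × D₂) :
    psD g₁ g₂ d = g₁.ψ d.1 * g₂.ψ d.2 := rfl

theorem fD_val (c : HexGrp σ L) (g₁ : GG E D₁) (g₂ : GG ↥(fx σ) D₂) (d : D₁ × D₂) :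
    ((fD c g₁ g₂ d : _) : L) = c.pb (g₁.j d.1) * c.p4 (g₂.j d.2) := rfl

theorem ok_CZ (c : HexGrp σ L) [Finite E] (h2 : (2 : E) ≠ 0) (g₁ : GG E D₁) (g₂ : GG ↥(fx σ) D₂)
    (y : Subgroup.centralizer ({c.z} : Set L)) : Ok (fD c g₁ g₂) (psD g₁ g₂) (zz c) y := by
  obtain ⟨a, b, s, hs, hy⟩ := c.mem_CZ_form h2 (Subgroup.mem_centralizer_singleton_iff.1 y.2)
  have hs0 : (s : E) ≠ 0 := fun h => hs (Subtype.ext h)
  have hδ : (s : E)⁻¹ ≠ 0 := inv_ne_zero hs0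
  rcases g₁.key _ hδ a with ⟨v, hv1, hv2⟩ | ⟨d, d', h3, h4⟩
  · rcases g₂.key _ hs b with ⟨w, hw1, hw2⟩ | ⟨d, d', h3, h4⟩
    · -- the first alternative
      left
      obtain ⟨hk1, hk2⟩ := inv_of_key c h2 s hs hδ a (g₁.j v) b (g₂.j w) hv1 hv2 hw1 hw2
      rw [← hy] at hk2
      have ht : ((fD c g₁ g₂ (v, w) * zz c : _) : L) = c.pb (g₁.j v) * c.p4 (g₂.j w) * c.z0 := rfl
      obtain ⟨v', hv3, -⟩ := g₁.inv v
      obtain ⟨w', hw3, -⟩ := g₂.inv w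
      have e1 : (zz c)⁻¹ * fD c g₁ g₂ (v, w) * zz c = fD c g₁ g₂ (v', w') := by
        change (zz c)⁻¹ * F0 c (g₁.j v, g₂.j w) * zz c = F0 c (g₁.j v', g₂.j w')
        rw [zz_conj c h2, hv3, hw3]
      have e2 : (fD c g₁ g₂ (v, w) * zz c) * y * (fD c g₁ g₂ (v, w) * zz c)⁻¹ = y⁻¹ := by
        apply Subtype.ext
        exact hk2
      have hzi : (zz c)⁻¹ = zz c := inv_eq_of_mul_eq_one_left (zz_sq c)
      refine ⟨(v', w'), (v', w')⁻¹, ?_, ?_⟩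
      · rw [map_inv, ← e1, ← e2, hzi]
        have hz := zz_sq c
        calc zz c * (fD c g₁ g₂ (v, w) * zz c * y * (fD c g₁ g₂ (v, w) * zz c)⁻¹) * zz c =
            zz c * fD c g₁ g₂ (v, w) * zz c * y * ((zz c)⁻¹ * (fD c g₁ g₂ (v, w))⁻¹ * zz c) := by group
          _ = zz c * fD c g₁ g₂ (v, w) * zz c * y * (zz c * fD c g₁ g₂ (v, w) * zz c)⁻¹ := by
              rw [mul_inv_rev (zz c * _), mul_inv_rev (zz c), hzi]
              group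
      · rw [map_inv, mul_inv_cancel]
    · right
      refine ⟨(1, d), (1, d'), ?_, ?_⟩
      · apply Subtype.ext
        change (y : L) * (c.pb (g₁.j 1) * c.p4 (g₂.j d)) = (c.pb (g₁.j 1) * c.p4 (g₂.j d')) * y
        rw [hy, map_one, map_one, one_mul, one_mul]
        calc c.pb a * c.p4 b * c.pa (dg s hs) * c.p4 (g₂.j d) =
            c.pb a * c.p4 b * (c.pa (dg s hs) * c.p4 (g₂.j d)) := by group
          _ = c.pb a * (c.p4 b * c.p4 (conjGL (dgl s hs) (g₂.j d))) * c.pa (dg s hs) := by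
              rw [hs_p4 c h2]; group
          _ = (c.pb a * c.p4 (g₂.j d')) * c.p4 b * c.pa (dg s hs) := by rw [← map_mul, h3, map_mul]; group
          _ = _ := by rw [c.comm_pb_p4]; group
      · rw [psD_apply, psD_apply]
        simpa using h4
  · right
    refine ⟨(d, 1), (d', 1), ?_, ?_⟩
    · apply Subtype.ext
      change (y : L) * (c.pb (g₁.j d) * c.p4 (g₂.j 1)) = (c.pb (g₁.j d') * c.p4 (g₂.j 1)) * y
      rw [hy, map_one, map_one, mul_one, mul_one]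
      calc c.pb a * c.p4 b * c.pa (dg s hs) * c.pb (g₁.j d) =
          c.pb a * c.p4 b * (c.pa (dg s hs) * c.pb (g₁.j d)) := by group
        _ = c.pb a * (c.p4 b * c.pb (conjGL (dgl (s : E)⁻¹ hδ) (g₁.j d))) * c.pa (dg s hs) := by
            rw [hs_pb c s hs _ hδ]; group
        _ = c.pb a * c.pb (conjGL (dgl (s : E)⁻¹ hδ) (g₁.j d)) * c.p4 b * c.pa (dg s hs) := by
            rw [← c.comm_pb_p4]; group
        _ = _ := by rw [← map_mul, h3, map_mul]; group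
    · rw [psD_apply, psD_apply]
      simpa using h4

/-- all indicators of `C(z)` are one -/
theorem fs_CZ (c : HexGrp σ L) [Finite E] [Finite L] (h2 : (2 : E) ≠ 0) :
    FSGood False (Subgroup.centralizer ({c.z} : Set L)) := by
  classical
  intro χ hχ
  left
  have : Fintype (SL2 E × SL2 ↥(fx σ)) := Fintype.ofFinite _
  have hc := isCharacter_comp (F0 c) (isIrr_isCharacter hχ)
  have hc1 : (χ ∘ F0 c) 1 ≠ 0 := by
    rw [Function.comp_apply, map_one]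
    exact isIrr_apply_one_ne_zero hχ
  obtain ⟨θ, hθ, hθ1⟩ := exists_constituent hc hc1
  obtain ⟨α, β, hα, hβ, rfl⟩ := (S0188.result θ).1 hθ
  obtain ⟨D₁, i1, i2, g₁, hg₁⟩ := exists_GG hα
  obtain ⟨D₂, i3, i4, g₂, hg₂⟩ := exists_GG hβ
  have hne : ∑ d : D₁ × D₂, χ (fD c g₁ g₂ d) * ((psD g₁ g₂ d⁻¹ : ℂˣ) : ℂ) ≠ 0 := by
    refine sum_ne_zero_of_constituent (MonoidHom.prodMap g₁.j g₂.j) (psD g₁ g₂) hc hθ hθ1 ?_
    rw [Fintype.sum_prod_type]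
    have : ∀ (x : D₁) (y : D₂), (fun x : SL2 E × SL2 ↥(fx σ) => α x.1 * β x.2)
        ((MonoidHom.prodMap g₁.j g₂.j) (x, y)) * ((psD g₁ g₂ (x, y)⁻¹ : ℂˣ) : ℂ) =
        (α (g₁.j x) * ((g₁.ψ x⁻¹ : ℂˣ) : ℂ)) * (β (g₂.j y) * ((g₂.ψ y⁻¹ : ℂˣ) : ℂ)) := by
      intro x y
      rw [psD_apply]
      change α (g₁.j x) * β (g₂.j y) * ((g₁.ψ x⁻¹ * g₂.ψ y⁻¹ : ℂˣ) : ℂ) = _
      rw [Units.val_mul]
      ring
    rw [Finset.sum_congr rfl fun x _ => Finset.sum_congr rfl fun y _ => this x y, ← Finset.sum_mul_sum]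
    exact mul_ne_zero hg₁ hg₂
  have h1 := (fs_gelfand (fD c g₁ g₂) (psD g₁ g₂) (h := zz c) (by rw [zz_sq]; intro g; rw [mul_one, one_mul])
    (by rw [zz_sq, mul_one]) ?_ (ok_CZ c h2 g₁ g₂) hχ hne).1
  · rw [zz_sq] at h1
    exact mul_right_cancel₀ (isIrr_apply_one_ne_zero hχ) (by rw [h1, one_mul])
  · rintro ⟨d₁, d₂⟩
    obtain ⟨d₁', h3, h4⟩ := g₁.inv d₁
    obtain ⟨d₂', h5, h6⟩ := g₂.inv d₂
    refine ⟨(d₁', d₂'), ?_, ?_⟩
    · change (zz c)⁻¹ * F0 c (g₁.j d₁, g₂.j d₂) * zz c = F0 c (g₁.j d₁', g₂.j d₂')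
      rw [zz_conj c h2, h3, h5]
    · rw [psD_apply, psD_apply]
      change g₁.ψ d₁' * g₂.ψ d₂' = (g₁.ψ d₁ * g₂.ψ d₂)⁻¹
      rw [h4, h6, mul_inv]

end hex

end Cfsg.Agent.H969.FR
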