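import Cfsg.Agent.H969.FR.Gelf
import Cfsg.Agent.Characters.DegreeBounds
import Cfsg.Agent.Characters.Linear
import Cfsg.Agent.Characters.Values
import Cfsg.Agent.H991.SR.TD4Odd

/-!
# Linear characters of `up K` and of `SL(2,K)` for the counting lemma

* `GG K D`: `D → SL(2,K)` with a linear character which satisfies the hypotheses of the counting lemma for a
  factor `SL(2,K)`;
* `exists_GG`: every irreducible character of `SL(2,K)` lies over one of these.
-/

set_option autoImplicit false

universe u v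

namespace Cfsg.Agent.H969.FR

open Cfsg Cfsg.Agent.H955.FS Cfsg.Agent.Characters.Core
open Cfsg.Agent.Cit.HexBase Cfsg.Agent.Lib.SL2Mat Cfsg.Agent.H991.SRD
open scoped ComplexConjugate

/-! ### Characters of commutative groups, constituents -/

theorem irr_comm {A : Type*} [Group A] [Finite A] (hA : ∀ a b : A, a * b = b * a) {θ : A → ℂ}
    (hθ : IsIrrCharacter A θ) : ∃ l : A →* ℂˣ, θ = fun a => (l a : ℂ) := by
  have h1 : θ 1 = 1 := by
    obtain ⟨n, ρ, hρ, rfl⟩ := hθ
    have h2 := Characters.DegreeBounds.finrank_le_index_of_comm ρ (⊤ : Subgroup A) fun a _ b _ => hA a b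
    have hpos := Characters.Central.finrank_pos_of_irr ρ hρ
    rw [Representation.char_one]
    rw [Subgroup.index_top] at h2
    exact_mod_cast le_antisymm h2 hpos
  exact Characters.Linear.exists_hom_of_isIrrCharacter hθ h1

/-- a character of a commutative group without nontrivial linear constituents is constant -/
theorem const_of_sums {A : Type*} [Group A] [Fintype A] (hA : ∀ a b : A, a * b = b * a) {χ : A → ℂ}
    (hχ : IsCharacter A χ) (h : ∀ l : A →* ℂˣ, l ≠ 1 → ∑ a : A, χ a * ((l a⁻¹ : ℂˣ) : ℂ) = 0) (a : A) :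
    χ a = χ 1 := by
  classical
  have := finite_irr (G := A)
  have := Fintype.ofFinite (IrrCharacter A)
  obtain ⟨m, hm⟩ := exists_nat_comb hχ
  have h1 : ∀ θ : IrrCharacter A, m θ ≠ 0 → ∀ a : A, (θ : A → ℂ) a = 1 := by
    intro θ hθ a
    obtain ⟨l, hl⟩ := irr_comm hA θ.2
    by_cases hl1 : l = 1
    · rw [hl, hl1]
      rfl
    · exfalso
      have h2 := h l hl1
      have h3 : classInner χ (θ : A → ℂ) = m θ := by
        rw [hm]
        exact classInner_sum_nsmul_irr m θ
      have h4 : classInner χ (θ : A → ℂ) = 0 := by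
        rw [classInner_def, hl]
        have : ∑ g : A, χ g * conj ((l g : ℂ)) = ∑ a : A, χ a * ((l a⁻¹ : ℂˣ) : ℂ) :=
          Finset.sum_congr rfl fun g _ => by rw [conj_hom]
        rw [this, h2, mul_zero]
      rw [h4] at h3
      exact hθ (by exact_mod_cast h3.symm)
  have h2 : ∀ a : A, χ a = ∑ θ : IrrCharacter A, (m θ : ℂ) := by
    intro a
    rw [hm, Finset.sum_apply]
    refine Finset.sum_congr rfl fun θ _ => ?_
    rw [Pi.smul_apply, nsmul_eq_mul]
    by_cases hθ : m θ = 0
    · rw [hθ, Nat.cast_zero, zero_mul]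
    · rw [h1 θ hθ, mul_one]
  rw [h2, h2]

/-- sums over a constituent -/
theorem sum_ne_zero_of_constituent {A : Type u} {D : Type v} [Group A] [Fintype A] [Group D] [Fintype D] (j : D →* A)
    (ψ : D →* ℂˣ) {Θ : A → ℂ} (hΘ : IsCharacter A Θ) {θ : A → ℂ} (hθ : IsIrrCharacter A θ) (hθΘ : classInner Θ θ ≠ 0)
    (h : ∑ d : D, θ (j d) * ((ψ d⁻¹ : ℂˣ) : ℂ) ≠ 0) : ∑ d : D, Θ (j d) * ((ψ d⁻¹ : ℂˣ) : ℂ) ≠ 0 := by
  classical
  have := finite_irr (G := A)
  have := Fintype.ofFinite (IrrCharacter A)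
  obtain ⟨m, hm⟩ := exists_nat_comb hΘ
  choose n hn using fun θ : IrrCharacter A => exists_mult j ψ θ.2
  have h1 : ∑ d : D, Θ (j d) * ((ψ d⁻¹ : ℂˣ) : ℂ) = (Nat.card D : ℂ) * ((∑ θ : IrrCharacter A, m θ * n θ : ℕ) : ℂ) := by
    have h2 : ∀ d : D, Θ (j d) * ((ψ d⁻¹ : ℂˣ) : ℂ) =
        ∑ θ : IrrCharacter A, (m θ : ℂ) * ((θ : A → ℂ) (j d) * ((ψ d⁻¹ : ℂˣ) : ℂ)) := by
      intro d
      rw [hm, Finset.sum_apply, Finset.sum_mul]
      refine Finset.sum_congr rfl fun θ _ => ?_
      rw [Pi.smul_apply, nsmul_eq_mul]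
      ring
    rw [Finset.sum_congr rfl fun d _ => h2 d, Finset.sum_comm, Nat.cast_sum, Finset.mul_sum]
    refine Finset.sum_congr rfl fun θ _ => ?_
    rw [← Finset.mul_sum, hn]
    push_cast
    ring
  have hD : (Nat.card D : ℂ) ≠ 0 := by
    have : Nonempty D := ⟨1⟩
    exact_mod_cast Nat.card_pos.ne'
  rw [h1]
  intro h2
  rcases mul_eq_zero.1 h2 with h3 | h3
  · exact hD h3
  · have h4 : ∑ θ : IrrCharacter A, m θ * n θ = 0 := by exact_mod_cast h3
    have h5 := (Finset.sum_eq_zero_iff.1 h4) ⟨θ, hθ⟩ (Finset.mem_univ _)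
    rcases Nat.mul_eq_zero.1 h5 with h6 | h6
    · apply hθΘ
      have : classInner Θ θ = m ⟨θ, hθ⟩ := by
        rw [hm]
        exact classInner_sum_nsmul_irr m ⟨θ, hθ⟩
      rw [this, h6, Nat.cast_zero]
    · apply h
      have h7 := hn ⟨θ, hθ⟩
      rw [h6, Nat.cast_zero, mul_zero] at h7
      exact h7

theorem exists_constituent {A : Type u} [Group A] [Fintype A] {Θ : A → ℂ} (hΘ : IsCharacter A Θ) (h1 : Θ 1 ≠ 0) :
    ∃ θ : A → ℂ, IsIrrCharacter A θ ∧ classInner Θ θ ≠ 0 := by
  classical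
  have := finite_irr (G := A)
  have := Fintype.ofFinite (IrrCharacter A)
  obtain ⟨m, hm⟩ := exists_nat_comb hΘ
  by_contra hc
  push Not at hc
  apply h1
  rw [hm, Finset.sum_apply]
  refine Finset.sum_eq_zero fun θ _ => ?_
  have h2 : classInner Θ (θ : A → ℂ) = m θ := by
    rw [hm]
    exact classInner_sum_nsmul_irr m θ
  rw [hc θ θ.2] at h2
  have h3 : m θ = 0 := by exact_mod_cast h2.symm
  rw [h3, zero_smul, Pi.zero_apply]

/-! ### The pairs -/

/-- a group over `SL(2,K)` with a linear character -/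
structure GG (K : Type*) [Field K] (D : Type*) [Group D] where
  j : D →* SL2 K
  ψ : D →* ℂˣ
  inv : ∀ d, ∃ d', conjGL (dgl (-1) neg_one_ne) (j d) = j d' ∧ ψ d' = (ψ d)⁻¹
  key : ∀ (δ : K) (hδ : δ ≠ 0) (a : SL2 K),
    (∃ v : D, j v * conjGL (dgl (-1) neg_one_ne) (j v) = 1 ∧
      a * conjGL (dgl δ hδ) (j v) * conjGL (dgl δ hδ) (conjGL (dgl (-1) neg_one_ne) a) * dg δ hδ = j v) ∨
    (∃ d d' : D, a * conjGL (dgl δ hδ) (j d) = j d' * a ∧ ψ d ≠ ψ d')

/-- all of `SL(2,K)` with the trivial character -/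
def GG.all (K : Type*) [Field K] : GG K (SL2 K) where
  j := MonoidHom.id _
  ψ := 1
  inv := fun d => ⟨conjGL (dgl (-1) neg_one_ne) d, rfl, by simp⟩
  key := fun δ hδ a => Or.inl (exists_v hδ a)

/-- the unipotent subgroup with a nontrivial character -/
def GG.uni (K : Type*) [Field K] (l : Multiplicative K →* ℂˣ) (hl : l ≠ 1) : GG K (Multiplicative K) where
  j :=
    { toFun := fun x => up x.toAdd
      map_one' := up_zero
      map_mul' := fun x y => (up_mul _ _).symm }
  ψ := l
  inv := fun d => by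
    refine ⟨d⁻¹, ?_, map_inv _ _⟩
    change conjGL (dgl (-1) neg_one_ne) (up d.toAdd) = up (d⁻¹).toAdd
    rw [conjGL_dgl_up, toAdd_inv]
    congr 1
    ring
  key := fun δ hδ a => by
    by_cases hc : ent a 1 0 = 0
    · by_cases hd : ent a 1 1 = δ * ent a 0 0
      · left
        refine ⟨1, ?_⟩
        change up (0 : K) * conjGL (dgl (-1) neg_one_ne) (up 0) = 1 ∧
          a * conjGL (dgl δ hδ) (up 0) * conjGL (dgl δ hδ) (conjGL (dgl (-1) neg_one_ne) a) * dg δ hδ = up 0
        refine key_sl hδ a _ (by rw [up_00, up_11]) ?_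
        rw [up_00, up_01, up_10, hc, hd]
        ring
      · right
        have hdet := det_eq a
        rw [hc, mul_zero, sub_zero] at hdet
        have h00 : ent a 0 0 ≠ 0 := by
          intro h; rw [h, zero_mul] at hdet; exact zero_ne_one hdet
        have h11 : ent a 1 1 ≠ 0 := by
          intro h; rw [h, mul_zero] at hdet; exact zero_ne_one hdet
        have hk : δ * ent a 0 0 / ent a 1 1 - 1 ≠ 0 := by
          intro h
          apply hd
          rw [sub_eq_zero, div_eq_one_iff_eq h11] at h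
          exact h.symm
        obtain ⟨y, hy⟩ : ∃ y : Multiplicative K, l y ≠ 1 := by
          by_contra hcon
          push Not at hcon
          exact hl (MonoidHom.ext hcon)
        -- `x` with `(κ - 1) x = y`
        obtain ⟨x, hx⟩ : ∃ x : K, (δ * ent a 0 0 / ent a 1 1 - 1) * x = y.toAdd :=
          ⟨y.toAdd / (δ * ent a 0 0 / ent a 1 1 - 1), by field_simp⟩
        refine ⟨Multiplicative.ofAdd x, Multiplicative.ofAdd (δ * ent a 0 0 / ent a 1 1 * x), ?_, ?_⟩
        · change a * conjGL (dgl δ hδ) (up x) = up (δ * ent a 0 0 / ent a 1 1 * x) * a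
          rw [conjGL_dgl_up]
          refine ext_ent ?_ ?_ ?_ ?_ <;>
            simp only [ent_mul, up_00, up_01, up_10, up_11, hc] <;> field_simp <;> ring
        · intro h
          apply hy
          have e : y = Multiplicative.ofAdd (δ * ent a 0 0 / ent a 1 1 * x) * (Multiplicative.ofAdd x)⁻¹ := by
            rw [← ofAdd_neg, ← ofAdd_add]
            have : δ * ent a 0 0 / ent a 1 1 * x + -x = y.toAdd := by rw [← hx]; ring
            rw [this, ofAdd_toAdd]
          rw [e, map_mul, map_inv, ← h, mul_inv_cancel]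
    · left
      refine ⟨Multiplicative.ofAdd (-(ent a 1 1 - δ * ent a 0 0) / (δ * ent a 1 0)), ?_⟩
      refine key_sl hδ a _ (by change ent (up _) 0 0 = ent (up _) 1 1; rw [up_00, up_11]) ?_
      change ent (up _) 0 0 * _ + ent (up _) 0 1 * _ - ent (up _) 1 0 * _ = 0
      simp only [up_00, up_01, up_10]
      change 1 * (ent a 1 1 - δ * ent a 0 0) + (-(ent a 1 1 - δ * ent a 0 0) / (δ * ent a 1 0)) * (δ * ent a 1 0) -
        0 * ent a 0 1 = 0
      field_simp
      ring

/-- every irreducible character of `SL(2,K)` lies over one of the characters -/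
theorem exists_GG {K : Type v} [Field K] [Finite K] {α : SL2 K → ℂ} (hα : IsIrrCharacter (SL2 K) α) :
    ∃ (D : Type v) (_ : Group D) (_ : Fintype D) (g : GG K D), ∑ d : D, α (g.j d) * ((g.ψ d⁻¹ : ℂˣ) : ℂ) ≠ 0 := by
  classical
  have := Fintype.ofFinite K
  have : Fintype (SL2 K) := Fintype.ofFinite _
  have : Fintype (Multiplicative K) := inferInstance
  by_cases h1 : ∀ x : K, α (up x) = α 1
  · -- `α` is constant
    refine ⟨SL2 K, inferInstance, inferInstance, GG.all K, ?_⟩
    obtain ⟨n, ρ, hρ, rfl⟩ := hα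
    have hup : ∀ x : K, ρ (up x) = LinearMap.id := fun x => by
      refine (Characters.Values.character_eq_finrank_iff ρ _).1 ?_
      rw [h1, Representation.char_one]
    have hlo : ∀ x : K, ρ (lo x) = LinearMap.id := fun x => by
      have e : lo x = wm 1 one_ne_zero * up (-x) * (wm 1 one_ne_zero)⁻¹ := by
        rw [wm_up]
        simp
      rw [e, map_mul, map_mul, hup]
      change ρ (wm 1 one_ne_zero) * 1 * ρ (wm 1 one_ne_zero)⁻¹ = 1
      rw [mul_one, ← map_mul, mul_inv_cancel, map_one]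
    have hall : ∀ g : SL2 K, ρ g = 1 := by
      intro g
      obtain ⟨a, b, c, d, rfl⟩ := exists_up_lo g
      rw [map_mul, map_mul, map_mul, hup, hup, hlo, hlo]
      rfl
    have hch : ∀ g : SL2 K, ρ.character g = ρ.character 1 := fun g => by
      rw [Representation.character, Representation.character, hall, hall]
    have h2 : ∀ d : SL2 K, ρ.character ((GG.all K).j d) * (((GG.all K).ψ d⁻¹ : ℂˣ) : ℂ) = ρ.character 1 := by
      intro d
      rw [hch]
      change ρ.character 1 * ((1 : ℂˣ) : ℂ) = _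
      rw [Units.val_one, mul_one]
    rw [Finset.sum_congr rfl fun d _ => h2 d, Finset.sum_const, nsmul_eq_mul]
    refine mul_ne_zero ?_ (isIrr_apply_one_ne_zero ⟨n, ρ, hρ, rfl⟩)
    rw [Finset.card_univ]
    exact_mod_cast Fintype.card_ne_zero
  · push Not at h1
    obtain ⟨x, hx⟩ := h1
    by_contra hcon
    push Not at hcon
    apply hx
    let j : Multiplicative K →* SL2 K :=
      { toFun := fun x => up x.toAdd
        map_one' := up_zero
        map_mul' := fun x y => (up_mul _ _).symm }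
    have h2 := const_of_sums (A := Multiplicative K) (fun a b => mul_comm a b)
      (isCharacter_comp j (isIrr_isCharacter hα)) (fun l hl => by
        exact hcon (Multiplicative K) inferInstance inferInstance (GG.uni K l hl)) (Multiplicative.ofAdd x)
    have h3 : j 1 = 1 := map_one j
    change α (up x) = α (j 1) at h2
    rw [h2, h3]

end Cfsg.Agent.H969.FR
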